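import Mathlib
import Cfsg.Agent.Camina.Pair
import Cfsg.Agent.LowerCentral.Bracket
import Cfsg.Agent.Transfer.Control

/-!
A normal `p`-subgroup `P` (`p` odd) whose elements outside `R` have full classes `x R`, with an abelian
group of order `[P : R] - 1` acting regularly on `(P/R)^#`: `P` has class at most two and some element
outside `R` has order `p`.
-/

set_option autoImplicit false

namespace CfsgLib.OneSeen

open scoped commutatorElement

variable {G : Type*} [Group G]

/-- A commutative group of automorphisms without proper invariant subgroups is semiregular. -/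
theorem card_dvd_sub_one {X : Type*} [Group X] [Finite X] (A : Subgroup (MulAut X))
    (hcomm : ∀ a ∈ A, ∀ b ∈ A, a * b = b * a)
    (hirr : ∀ Y : Subgroup X, (∀ a ∈ A, ∀ y ∈ Y, a y ∈ Y) → Y = ⊥ ∨ Y = ⊤) :
    Nat.card A ∣ Nat.card X - 1 := by
  classical
  have hfree : ∀ a ∈ A, a ≠ 1 → ∀ x : X, a x = x → x = 1 := by
    intro a ha hne x hx
    let Y : Subgroup X :=
      { carrier := {y | a y = y}
        one_mem' := map_one a
        mul_mem' := fun {y z} hy hz => by
          show a (y * z) = y * z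
          rw [map_mul, hy, hz]
        inv_mem' := fun {y} hy => by
          show a y⁻¹ = y⁻¹
          rw [map_inv, hy] }
    rcases hirr Y (fun b hb y hy => by
        show a (b y) = b y
        have h := DFunLike.congr_fun (hcomm a ha b hb) y
        rw [MulAut.mul_apply, MulAut.mul_apply] at h
        rw [h]
        exact congrArg b hy) with h | h
    · have : x ∈ Y := hx
      rw [h, Subgroup.mem_bot] at this
      exact this
    · exfalso
      refine hne (MulEquiv.ext fun y => ?_)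
      have : y ∈ Y := by rw [h]; trivial
      exact this
  let S := {x : X // x ≠ 1}
  letI : MulAction A S :=
    { smul := fun a x => ⟨(a : MulAut X) x.1, fun h => x.2
        ((a : MulAut X).injective (h.trans (map_one _).symm))⟩
      one_smul := fun x => Subtype.ext rfl
      mul_smul := fun a b x => Subtype.ext rfl }
  have hst : ∀ x : S, MulAction.stabilizer A x = ⊥ := by
    intro x
    rw [eq_bot_iff]
    intro a ha
    rw [Subgroup.mem_bot]
    by_contra hne
    exact x.2 (hfree a a.2 (fun h => hne (Subtype.ext h)) x.1 (congrArg Subtype.val ha))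
  have e := MulAction.selfEquivSigmaOrbitsQuotientStabilizer A S
  have hS : Nat.card S = Nat.card X - 1 := by
    haveI := Fintype.ofFinite X
    rw [Nat.card_eq_fintype_card, Nat.card_eq_fintype_card, Fintype.card_subtype_compl,
      Fintype.card_subtype_eq]
  haveI := Fintype.ofFinite (Quotient (MulAction.orbitRel A S))
  rw [← hS, Nat.card_congr e, Nat.card_sigma]
  refine Finset.dvd_sum fun ω _ => ?_
  rw [hst, ← Subgroup.index_eq_card, Subgroup.index_bot]

/-- The order of the image of a subgroup above the kernel. -/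
theorem card_map_mk_mul [Finite G] (M H : Subgroup G) [M.Normal] (h : M ≤ H) :
    Nat.card M * Nat.card (H.map (QuotientGroup.mk' M)) = Nat.card H := by
  have h1 := CfsgLib.Camina.card_comap_surjective (QuotientGroup.mk' M) (QuotientGroup.mk'_surjective M)
    (H.map (QuotientGroup.mk' M))
  rw [Subgroup.comap_map_eq, QuotientGroup.ker_mk', sup_eq_left.2 h] at h1
  exact h1.symm

theorem commutator_lt_of_le [Finite G] {p : ℕ} [Fact p.Prime] {P L : Subgroup G} (hP : IsPGroup p P)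
    [P.Normal] [L.Normal] (hLP : L ≤ P) (hL : L ≠ ⊥) : ⁅L, P⁆ < L := by
  haveI : Group.IsNilpotent P := hP.isNilpotent
  haveI : (L.subgroupOf P).Normal := Subgroup.Normal.subgroupOf inferInstance _
  have hne : L.subgroupOf P ≠ ⊥ := by
    intro h
    rw [Subgroup.subgroupOf_eq_bot, disjoint_iff, inf_eq_left.2 hLP] at h
    exact hL h
  have h := (Subgroup.map_lt_map_iff_of_injective P.subtype_injective).2
    (CfsgLib.Transfer.commutator_top_lt_of_ne_bot hne)
  rwa [Subgroup.map_commutator, ← MonoidHom.range_eq_map, Subgroup.range_subtype,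
    Subgroup.map_subgroupOf_eq_of_le hLP] at h

variable [Finite G] {p r : ℕ} [Fact p.Prime] {P R : Subgroup G} [P.Normal] [R.Normal]

/-- The class of an element of `P` outside `R` is the whole coset. -/
theorem conj_coset (hRP : R ≤ P) (hPP : ⁅P, P⁆ ≤ R) (hcard : Nat.card P = p ^ r * Nat.card R)
    (hC : ∀ x ∈ P, x ∉ R → Nat.card (Subgroup.centralizer ({x} : Set G)) ≤ p ^ r)
    {x : G} (hx : x ∈ P) (hxR : x ∉ R) {z : G} (hz : z ∈ R) : ∃ u ∈ P, u * x * u⁻¹ = x * z := by
  have hsub : Set.range (fun u : P => (u : G) * x * (u : G)⁻¹) ⊆ (fun t => x * t) '' (R : Set G) := by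
    rintro _ ⟨u, rfl⟩
    refine ⟨⁅x⁻¹, (u : G)⁆, hPP (Subgroup.commutator_mem_commutator (inv_mem hx) u.2), ?_⟩
    simp only [commutatorElement_def]
    group
  have hle : ((fun t => x * t) '' (R : Set G)).ncard ≤
      (Set.range fun u : P => (u : G) * x * (u : G)⁻¹).ncard := by
    rw [Set.ncard_image_of_injective _ (mul_right_injective x), ← Nat.card_coe_set_eq]
    have h := CfsgLib.Camina.card_range_conj_mul P x
    have h2 : Nat.card ((Subgroup.centralizer ({x} : Set G)).subgroupOf P) ≤ p ^ r :=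
      le_trans (Nat.card_le_card_of_injective
        (fun u : (Subgroup.centralizer ({x} : Set G)).subgroupOf P =>
          (⟨((u : P) : G), u.2⟩ : Subgroup.centralizer ({x} : Set G)))
        fun a b hab => Subtype.ext (Subtype.ext (congrArg Subtype.val hab :))) (hC x hx hxR)
    rw [← Nat.card_coe_set_eq]
    rw [hcard] at h
    have hp0 : 0 < p ^ r := pow_pos (Fact.out : p.Prime).pos r
    have h3 : p ^ r * Nat.card R ≤
        p ^ r * Nat.card (Set.range fun u : P => (u : G) * x * (u : G)⁻¹) := by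
      rw [← h, mul_comm (p ^ r)]
      exact Nat.mul_le_mul_left _ h2
    exact Nat.le_of_mul_le_mul_left h3 hp0
  have heq := Set.eq_of_subset_of_ncard_le hsub hle (Set.toFinite _)
  obtain ⟨u, hu⟩ := heq.symm.subset ⟨z, hz, rfl⟩
  exact ⟨u, u.2, hu⟩

/-- A section of `R` centralised by `P` has order less than `[P : R]`. -/
theorem card_section_lt (hP : IsPGroup p P) (hRP : R ≤ P) (hPP : ⁅P, P⁆ ≤ R)
    (hcard : Nat.card P = p ^ r * Nat.card R)
    (hC : ∀ x ∈ P, x ∉ R → Nat.card (Subgroup.centralizer ({x} : Set G)) ≤ p ^ r) (hr : 1 ≤ r)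
    (M X : Subgroup G) [M.Normal] (hMX : M ≤ X) (hXR : X ≤ R) (hc : ⁅X, P⁆ ≤ M) :
    Nat.card (X.map (QuotientGroup.mk' M)) < p ^ r := by
  obtain ⟨x, hx, hxR⟩ : ∃ x ∈ P, x ∉ R := by
    by_contra h
    push Not at h
    have hle : Nat.card P ≤ Nat.card R := Subgroup.card_le_of_le h
    have h2 : 1 < p ^ r := Nat.one_lt_pow (by omega) (Fact.out : p.Prime).one_lt
    rw [hcard] at hle
    have := Nat.le_of_mul_le_mul_right (hle.trans (by rw [one_mul] : Nat.card R ≤ 1 * Nat.card R)) Nat.card_pos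
    omega
  let q := QuotientGroup.mk' M
  have hMR : M ≤ R := hMX.trans hXR
  have hrange : Set.range (fun u : P.map q => (u : G ⧸ M) * q x * (u : G ⧸ M)⁻¹) =
      (fun t => q x * t) '' ((R.map q : Subgroup (G ⧸ M)) : Set (G ⧸ M)) := by
    apply Set.Subset.antisymm
    · rintro _ ⟨⟨_, u, hu, rfl⟩, rfl⟩
      refine ⟨q ⁅x⁻¹, u⁆,
        Subgroup.mem_map_of_mem q (hPP (Subgroup.commutator_mem_commutator (inv_mem hx) hu)), ?_⟩
      simp only [commutatorElement_def, map_mul, map_inv]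
      group
    · rintro _ ⟨_, ⟨z, hz, rfl⟩, rfl⟩
      obtain ⟨u, hu, huz⟩ := conj_coset hRP hPP hcard hC hx hxR hz
      exact ⟨⟨q u, u, hu, rfl⟩, by simp only [← map_mul, ← map_inv, huz]⟩
  have h := CfsgLib.Camina.card_range_conj_mul (P.map q) (q x)
  rw [Nat.card_coe_set_eq, hrange, Set.ncard_image_of_injective _ (mul_right_injective (q x)),
    ← Nat.card_coe_set_eq, SetLike.coe_sort_coe] at h
  have hPcard := card_map_mk_mul M P (hMR.trans hRP)
  have hRcard := card_map_mk_mul M R hMR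
  set C := (Subgroup.centralizer {q x}).subgroupOf (P.map q)
  have hCeq : Nat.card C = p ^ r := by
    rw [← h, hcard, ← hRcard] at hPcard
    have hpos : 0 < Nat.card M * Nat.card (R.map q) := Nat.mul_pos Nat.card_pos Nat.card_pos
    refine Nat.eq_of_mul_eq_mul_left hpos ?_
    rw [mul_assoc, hPcard, mul_comm]
  have hXP : X.map q ≤ P.map q := Subgroup.map_mono (hXR.trans hRP)
  have hlt : (X.map q).subgroupOf (P.map q) < C := by
    refine lt_of_le_of_ne ?_ ?_
    · rintro ⟨_, _⟩ hu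
      rw [Subgroup.mem_subgroupOf] at hu
      obtain ⟨n, hn, rfl⟩ := hu
      rw [Subgroup.mem_subgroupOf, Subgroup.mem_centralizer_singleton_iff]
      show q n * q x = q x * q n
      have h0 : q ⁅n, x⁆ = 1 :=
        (QuotientGroup.eq_one_iff _).2 (hc (Subgroup.commutator_mem_commutator hn hx))
      rw [map_commutatorElement, commutatorElement_eq_one_iff_commute] at h0
      exact h0
    · intro he
      have hxC : (⟨q x, Subgroup.mem_map_of_mem q hx⟩ : P.map q) ∈ C := by
        rw [Subgroup.mem_subgroupOf, Subgroup.mem_centralizer_singleton_iff]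
      rw [← he, Subgroup.mem_subgroupOf] at hxC
      have h1 : x ∈ (X.map q).comap q := hxC
      rw [Subgroup.comap_map_eq, QuotientGroup.ker_mk', sup_eq_left.2 hMX] at h1
      exact hxR (hXR h1)
  rw [← hCeq, ← Nat.card_congr (Subgroup.subgroupOfEquivOfLe hXP).toEquiv]
  exact lt_of_le_of_ne (Subgroup.card_le_of_le hlt.le)
    fun he => hlt.ne (Subgroup.eq_of_le_of_card_ge hlt.le he.ge)

/-- The kernel of the action on a chief section has small index. -/
theorem exists_kernel (hP : IsPGroup p P) (hab : commutator G ≤ P) (hidx : P.index = p ^ r - 1)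
    (W X : Subgroup G) [W.Normal] [X.Normal] (hWX : W < X) (hXP : X ≤ P) (hc : ⁅X, P⁆ ≤ W)
    (hlt : Nat.card (X.map (QuotientGroup.mk' W)) < p ^ r)
    (hirr : ∀ Y : Subgroup G, Y.Normal → W ≤ Y → Y ≤ X → Y = W ∨ Y = X) :
    ∃ T : Subgroup G, P ≤ T ∧ T.index ≤ p ^ (r / 2) - 1 ∧ ∀ t ∈ T, ∀ w ∈ X, t * w * t⁻¹ * w⁻¹ ∈ W := by
  let q := QuotientGroup.mk' W
  set Xb := X.map q with hXb
  haveI : Xb.Normal := Subgroup.Normal.map inferInstance q (QuotientGroup.mk'_surjective W)
  let φ : G →* MulAut Xb := (MulAut.conjNormal (H := Xb)).comp q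
  have hker : ∀ t : G, t ∈ φ.ker ↔ ∀ w ∈ X, t * w * t⁻¹ * w⁻¹ ∈ W := by
    intro t
    constructor
    · intro ht w hw
      have h1 := congrArg Subtype.val (DFunLike.congr_fun (MonoidHom.mem_ker.1 ht)
        ⟨q w, Subgroup.mem_map_of_mem q hw⟩)
      rw [MonoidHom.comp_apply, MulAut.conjNormal_apply, MulAut.one_apply] at h1
      rw [← QuotientGroup.eq_one_iff]
      show q (t * w * t⁻¹ * w⁻¹) = 1
      rw [map_mul, map_mul, map_mul, map_inv, map_inv]
      exact mul_inv_eq_one.2 h1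
    · intro h
      rw [MonoidHom.mem_ker]
      refine MulEquiv.ext fun ⟨y, hy⟩ => Subtype.ext ?_
      obtain ⟨w, hw, rfl⟩ := hy
      rw [MonoidHom.comp_apply, MulAut.conjNormal_apply, MulAut.one_apply]
      refine mul_inv_eq_one.1 ?_
      show q t * q w * (q t)⁻¹ * (q w)⁻¹ = 1
      rw [← map_inv, ← map_inv, ← map_mul, ← map_mul, ← map_mul]
      exact (QuotientGroup.eq_one_iff _).2 (h w hw)
  have hPT : P ≤ φ.ker := fun t ht => (hker t).2 fun w hw => hc <| by
    rw [Subgroup.commutator_comm, ← commutatorElement_def]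
    exact Subgroup.commutator_mem_commutator ht hw
  have hcomm : ∀ a ∈ φ.range, ∀ b ∈ φ.range, a * b = b * a := by
    rintro _ ⟨a, rfl⟩ _ ⟨b, rfl⟩
    have h := MonoidHom.mem_ker.1 (hPT (hab (Subgroup.commutator_mem_commutator
      (Subgroup.mem_top a) (Subgroup.mem_top b))))
    rw [map_commutatorElement, commutatorElement_eq_one_iff_commute] at h
    exact h
  have hir : ∀ Y : Subgroup Xb, (∀ a ∈ φ.range, ∀ y ∈ Y, a y ∈ Y) → Y = ⊥ ∨ Y = ⊤ := by
    intro Y hY
    let Y' : Subgroup G := (Y.map Xb.subtype).comap q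
    have hY'n : Y'.Normal := ⟨fun n hn g => by
      obtain ⟨y, hy, hyn⟩ := hn
      refine ⟨φ g y, hY _ ⟨g, rfl⟩ y hy, ?_⟩
      show ((φ g y : Xb) : G ⧸ W) = q (g * n * g⁻¹)
      rw [MonoidHom.comp_apply, MulAut.conjNormal_apply, map_mul, map_mul, map_inv, ← hyn]
      rfl⟩
    have hW : W ≤ Y' := fun w hw => by
      show q w ∈ Y.map Xb.subtype
      rw [show q w = 1 from (QuotientGroup.eq_one_iff w).2 hw]
      exact one_mem _
    have hX : Y' ≤ X := fun n hn => by
      have h1 : n ∈ Xb.comap q := Subgroup.map_subtype_le Y hn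
      rw [hXb, Subgroup.comap_map_eq, QuotientGroup.ker_mk', sup_eq_left.2 hWX.le] at h1
      exact h1
    rcases hirr Y' hY'n hW hX with h | h
    · left
      rw [eq_bot_iff]
      intro y hy
      obtain ⟨n, hn⟩ := QuotientGroup.mk'_surjective W (y : G ⧸ W)
      have h1 : n ∈ Y' := ⟨y, hy, hn.symm⟩
      rw [h] at h1
      rw [Subgroup.mem_bot]
      refine Subtype.ext ?_
      rw [← hn]
      exact (QuotientGroup.eq_one_iff n).2 h1
    · right
      rw [eq_top_iff]
      rintro ⟨_, n, hn, rfl⟩ _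
      have hn' := hn
      rw [← h] at hn
      obtain ⟨y', hy', he⟩ := hn
      have he2 : y' = ⟨q n, Subgroup.mem_map_of_mem q hn'⟩ := Subtype.ext he
      exact he2 ▸ hy'
  have hd := card_dvd_sub_one φ.range hcomm hir
  rw [← Subgroup.index_ker] at hd
  obtain ⟨d, hd'⟩ := IsPGroup.iff_card.1 ((hP.to_le hXP).map q)
  rw [← hXb] at hd'
  rw [hd'] at hd hlt
  have hdr : d < r := (Nat.pow_lt_pow_iff_right (Fact.out : p.Prime).one_lt).1 hlt
  have hd0 : d ≠ 0 := fun h0 => by
    rw [h0, pow_zero, Subgroup.card_eq_one] at hd'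
    refine hWX.not_ge fun w hw => ?_
    have h1 : q w ∈ Xb := Subgroup.mem_map_of_mem q hw
    rw [hd', Subgroup.mem_bot] at h1
    exact (QuotientGroup.eq_one_iff w).1 h1
  have hdP : φ.ker.index ∣ p ^ r - 1 := hidx ▸ Subgroup.index_dvd_of_le hPT
  have hg : φ.ker.index ∣ p ^ Nat.gcd d r - 1 := by
    rw [← Nat.pow_sub_one_gcd_pow_sub_one]
    exact Nat.dvd_gcd hd hdP
  have hgpos : 0 < Nat.gcd d r := Nat.gcd_pos_of_pos_left r (Nat.pos_of_ne_zero hd0)
  have hhalf : Nat.gcd d r ≤ r / 2 := by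
    obtain ⟨k, hk⟩ := Nat.gcd_dvd_right d r
    have hle : Nat.gcd d r ≤ d := Nat.gcd_le_left r (Nat.pos_of_ne_zero hd0)
    have hk2 : 2 ≤ k := by
      rcases Nat.lt_or_ge k 2 with h | h
      · interval_cases k <;> omega
      · exact h
    have := Nat.mul_le_mul_left (Nat.gcd d r) hk2
    rw [← hk] at this
    omega
  refine ⟨φ.ker, hPT, ?_, fun t ht w hw => (hker t).1 ht w hw⟩
  have h1 : 1 < p ^ Nat.gcd d r := Nat.one_lt_pow hgpos.ne' (Fact.out : p.Prime).one_lt
  have h2 : p ^ Nat.gcd d r ≤ p ^ (r / 2) := Nat.pow_le_pow_right (Fact.out : p.Prime).pos hhalf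
  have h3 := Nat.le_of_dvd (by omega) hg
  omega

/-- `P` has class at most two. -/
theorem commutator_commutator_eq_bot (hP : IsPGroup p P) (hRP : R ≤ P) (hab : commutator G ≤ P)
    (hPP : ⁅P, P⁆ ≤ R) (hcard : Nat.card P = p ^ r * Nat.card R)
    (hC : ∀ x ∈ P, x ∉ R → Nat.card (Subgroup.centralizer ({x} : Set G)) ≤ p ^ r)
    (hidx : P.index = p ^ r - 1)
    (hfree : ∀ t : G, ∀ x ∈ P, x ∉ R → t * x * t⁻¹ * x⁻¹ ∈ R → t ∈ P) (hr : 2 ≤ r) :
    ⁅R, P⁆ = ⊥ := by
  obtain ⟨x0, hx0, hx0R⟩ : ∃ x ∈ P, x ∉ R := by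
    by_contra h
    push Not at h
    have hle : Nat.card P ≤ Nat.card R := Subgroup.card_le_of_le h
    have h2 : 1 < p ^ r := Nat.one_lt_pow (by omega) (Fact.out : p.Prime).one_lt
    rw [hcard] at hle
    have := Nat.le_of_mul_le_mul_right (hle.trans (by rw [one_mul] : Nat.card R ≤ 1 * Nat.card R)) Nat.card_pos
    omega
  have hR' : R ≤ ⁅P, P⁆ := by
    intro z hz
    obtain ⟨u, hu, huz⟩ := conj_coset hRP hPP hcard hC hx0 hx0R hz
    have : ⁅x0⁻¹, u⁆ = z := by
      rw [commutatorElement_def, inv_inv, mul_assoc, mul_assoc, ← mul_assoc u, huz, inv_mul_cancel_left]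
    rw [← this]
    exact Subgroup.commutator_mem_commutator (inv_mem hx0) hu
  by_contra hL
  set L := ⁅R, P⁆ with hLdef
  have hLR : L ≤ R := Subgroup.commutator_le_left R P
  have hL4 : ⁅L, P⁆ < L := commutator_lt_of_le hP (hLR.trans hRP) hL
  obtain ⟨M, hM⟩ := ({M : Subgroup G | M.Normal ∧ ⁅L, P⁆ ≤ M ∧ M < L}).toFinite.exists_maximal
    ⟨⁅L, P⁆, inferInstance, le_rfl, hL4⟩
  obtain ⟨hMn, hLM, hML⟩ := hM.prop
  haveI := hMn
  have hRR : ⁅R, R⁆ ≤ M := by
    refine le_trans (Subgroup.commutator_mono hR' le_rfl) ?_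
    refine CfsgLib.LowerCentral.commutator_commutator_le_of_rotate ?_ ?_
    · rw [Subgroup.commutator_comm P R]
      exact hLM
    · exact hLM
  let W0 : Subgroup G :=
    { carrier := {w | w ∈ R ∧ ∀ v ∈ P, Commute (QuotientGroup.mk' M w) (QuotientGroup.mk' M v)}
      one_mem' := ⟨one_mem _, fun v _ => by rw [map_one]; exact Commute.one_left _⟩
      mul_mem' := fun {a b} ha hb => ⟨mul_mem ha.1 hb.1, fun v hv => by
        rw [map_mul]; exact (ha.2 v hv).mul_left (hb.2 v hv)⟩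
      inv_mem' := fun {a} ha => ⟨inv_mem ha.1, fun v hv => by
        rw [map_inv]; exact (ha.2 v hv).inv_left⟩ }
  haveI hW0n : W0.Normal := ⟨fun w hw g => ⟨Subgroup.Normal.conj_mem inferInstance w hw.1 g, fun v hv => by
    have h1 := hw.2 (g⁻¹ * v * g⁻¹⁻¹) (Subgroup.Normal.conj_mem inferInstance v hv g⁻¹)
    have h2 := h1.map (MulAut.conj (QuotientGroup.mk' M g)).toMonoidHom
    simp only [MulEquiv.coe_toMonoidHom, MulAut.conj_apply, inv_inv, map_mul, map_inv] at h2 ⊢
    simpa [mul_assoc] using h2⟩⟩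
  have hcom : ∀ w ∈ R, ∀ v ∈ P, ⁅w, v⁆ ∈ M → Commute (QuotientGroup.mk' M w) (QuotientGroup.mk' M v) := by
    intro w _ v _ h
    rw [← commutatorElement_eq_one_iff_commute, ← map_commutatorElement]
    exact (QuotientGroup.eq_one_iff _).2 h
  have hLW : L ≤ W0 := fun l hl =>
    ⟨hLR hl, fun v hv => hcom l (hLR hl) v hv (hLM (Subgroup.commutator_mem_commutator hl hv))⟩
  have hW0R : W0 < R := by
    refine lt_of_le_of_ne (fun w hw => hw.1) fun he => hML.not_ge ?_
    rw [hLdef, Subgroup.commutator_le]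
    intro w hw v hv
    rw [← he] at hw
    have h1 := hw.2 v hv
    rw [← commutatorElement_eq_one_iff_commute, ← map_commutatorElement] at h1
    exact (QuotientGroup.eq_one_iff _).1 h1
  obtain ⟨W1, hW1⟩ := ({X : Subgroup G | X.Normal ∧ W0 < X ∧ X ≤ R}).toFinite.exists_minimal
    ⟨R, inferInstance, hW0R, le_rfl⟩
  obtain ⟨hW1n, hW01, hW1R⟩ := hW1.prop
  haveI := hW1n
  have hW1P : ⁅W1, P⁆ ≤ W0 := (Subgroup.commutator_mono hW1R le_rfl).trans hLW
  have hcardW : Nat.card (W1.map (QuotientGroup.mk' W0)) < p ^ r :=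
    card_section_lt hP hRP hPP hcard hC (by omega) W0 W1 hW01.le hW1R hW1P
  have hirrW : ∀ Y : Subgroup G, Y.Normal → W0 ≤ Y → Y ≤ W1 → Y = W0 ∨ Y = W1 := by
    intro Y hYn hY0 hY1
    rcases eq_or_lt_of_le hY0 with h | h
    · exact Or.inl h.symm
    · exact Or.inr (hW1.eq_of_le ⟨hYn, h, hY1.trans hW1R⟩ hY1)
  obtain ⟨T1, hPT1, hT1i, hT1⟩ :=
    exists_kernel hP hab hidx W0 W1 hW01 (hW1R.trans hRP) hW1P hcardW hirrW
  have hcardL : Nat.card (L.map (QuotientGroup.mk' M)) < p ^ r :=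
    card_section_lt hP hRP hPP hcard hC (by omega) M L hML.le hLR hLM
  have hirrL : ∀ Y : Subgroup G, Y.Normal → M ≤ Y → Y ≤ L → Y = M ∨ Y = L := by
    intro Y hYn hY0 hY1
    rcases eq_or_lt_of_le hY1 with h | h
    · exact Or.inr h
    · exact Or.inl (hM.eq_of_ge ⟨hYn, hLM.trans hY0, h⟩ hY0)
  obtain ⟨T2, hPT2, hT2i, hT2⟩ :=
    exists_kernel hP hab hidx M L hML (hLR.trans hRP) hLM hcardL hirrL
  obtain ⟨μ, hμ, hμP⟩ : ∃ μ ∈ T1 ⊓ T2, μ ∉ P := by
    by_contra h
    push Not at h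
    have h1 : P.index ≤ (T1 ⊓ T2).index :=
      Nat.le_of_dvd (Nat.pos_of_ne_zero Subgroup.index_ne_zero_of_finite) (Subgroup.index_dvd_of_le h)
    have h2 : (T1 ⊓ T2).index ≤ T1.index * T2.index := Subgroup.index_inf_le
    have h3 : T1.index * T2.index ≤ (p ^ (r / 2) - 1) * (p ^ (r / 2) - 1) := Nat.mul_le_mul hT1i hT2i
    have h4 : 1 < p ^ (r / 2) := Nat.one_lt_pow (by omega) (Fact.out : p.Prime).one_lt
    have h5 : p ^ (r / 2) * p ^ (r / 2) ≤ p ^ r := by
      rw [← pow_add]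
      exact Nat.pow_le_pow_right (Fact.out : p.Prime).pos (by omega)
    rw [hidx] at h1
    generalize p ^ (r / 2) = a at *
    generalize p ^ r = b at *
    obtain ⟨c, rfl⟩ : ∃ c, a = c + 2 := ⟨a - 2, by omega⟩
    rw [show c + 2 - 1 = c + 1 from by omega] at h3
    ring_nf at h3 h5
    omega
  -- the map v ↦ v⁻¹ μ v μ⁻¹ is onto modulo R
  let qR := QuotientGroup.mk' R
  haveI : (P.map qR).Normal := Subgroup.Normal.map inferInstance qR (QuotientGroup.mk'_surjective R)
  let δ : P.map qR → P.map qR := fun a => ⟨(a : G ⧸ R)⁻¹ * (qR μ * a * (qR μ)⁻¹),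
    mul_mem (inv_mem a.2) (Subgroup.Normal.conj_mem inferInstance _ a.2 (qR μ))⟩
  have hδi : Function.Injective δ := by
    rintro ⟨_, u, hu, rfl⟩ ⟨_, v, hv, rfl⟩ h
    have h1 : (qR u)⁻¹ * (qR μ * qR u * (qR μ)⁻¹) = (qR v)⁻¹ * (qR μ * qR v * (qR μ)⁻¹) :=
      congrArg Subtype.val h
    rw [inv_mul_eq_iff_eq_mul] at h1
    have h2 : qR (μ * (u * v⁻¹) * μ⁻¹ * (u * v⁻¹)⁻¹) = 1 := by
      simp only [map_mul, map_inv]
      calc qR μ * (qR u * (qR v)⁻¹) * (qR μ)⁻¹ * (qR u * (qR v)⁻¹)⁻¹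
          = (qR μ * qR u * (qR μ)⁻¹) * (qR μ * qR v * (qR μ)⁻¹)⁻¹ * (qR u * (qR v)⁻¹)⁻¹ := by group
        _ = 1 := by rw [h1]; group
    have h3 : u * v⁻¹ ∈ R := by
      by_contra hn
      exact hμP (hfree μ _ (mul_mem hu (inv_mem hv)) hn ((QuotientGroup.eq_one_iff _).1 h2))
    refine Subtype.ext ?_
    show qR u = qR v
    rw [← mul_inv_eq_one, ← map_inv, ← map_mul]
    exact (QuotientGroup.eq_one_iff _).2 h3
  have hδs : Function.Surjective δ := Finite.surjective_of_injective hδi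
  let q := QuotientGroup.mk' M
  have hLc : ∀ l ∈ L, ∀ v ∈ P, Commute (q l) (q v) := fun l hl v hv =>
    hcom l (hLR hl) v hv (hLM (Subgroup.commutator_mem_commutator hl hv))
  have hkey : ∀ w ∈ W1, ∀ v ∈ P, Commute (q w) (q (v⁻¹ * (μ * v * μ⁻¹))) := by
    intro w hw v hv
    have hwR := hW1R hw
    have hcL : ⁅w, v⁆ ∈ L := Subgroup.commutator_mem_commutator hwR hv
    have hv2 : μ * v * μ⁻¹ ∈ P := Subgroup.Normal.conj_mem inferInstance v hv μ
    have hc2L : ⁅w, μ * v * μ⁻¹⁆ ∈ L := Subgroup.commutator_mem_commutator hwR hv2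
    obtain ⟨w0, hw0, hw0e⟩ : ∃ w0 ∈ W0, q μ * q w * (q μ)⁻¹ = q w0 * q w :=
      ⟨μ * w * μ⁻¹ * w⁻¹, hT1 μ hμ.1 w hw, by
        simp only [← map_mul, ← map_inv]
        rw [inv_mul_cancel_right]⟩
    have hfix : q μ * q ⁅w, v⁆ * (q μ)⁻¹ = q ⁅w, v⁆ := by
      rw [← mul_inv_eq_one]
      simp only [← map_mul, ← map_inv]
      exact (QuotientGroup.eq_one_iff _).2 (hT2 μ hμ.2 _ hcL)
    have hc1 : Commute (q w0) (q (μ * v * μ⁻¹)) := hw0.2 _ hv2
    have hc2 : Commute (q w0) (q ⁅w, μ * v * μ⁻¹⁆) := (hLc _ hc2L w0 (hRP hw0.1)).symm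
    have e2 : q ⁅w, μ * v * μ⁻¹⁆ = q ⁅w, v⁆ := by
      rw [← hfix]
      conv_rhs => rw [map_commutatorElement]
      rw [map_commutatorElement] at hc2 ⊢
      calc ⁅q w, q (μ * v * μ⁻¹)⁆
          = q w0 * ⁅q w, q (μ * v * μ⁻¹)⁆ * (q w0)⁻¹ := by rw [hc2.eq, mul_inv_cancel_right]
        _ = q w0 * ⁅q w, q (μ * v * μ⁻¹)⁆ * (q w0)⁻¹ * ⁅q w0, q (μ * v * μ⁻¹)⁆ := by
            rw [commutatorElement_eq_one_iff_commute.2 hc1, mul_one]
        _ = ⁅q w0 * q w, q (μ * v * μ⁻¹)⁆ := by simp only [commutatorElement_def]; group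
        _ = q μ * ⁅q w, q v⁆ * (q μ)⁻¹ := by
            rw [← hw0e]
            simp only [commutatorElement_def, map_mul, map_inv]
            group
    rw [← commutatorElement_eq_one_iff_commute]
    have e3 : ⁅q w, q (v * (v⁻¹ * (μ * v * μ⁻¹)))⁆ = ⁅q w, q v⁆ := by
      rw [← map_commutatorElement, ← map_commutatorElement, mul_inv_cancel_left]
      exact e2
    have e4 : ⁅q w, q (v⁻¹ * (μ * v * μ⁻¹))⁆ =
        (q v)⁻¹ * (⁅q w, q v⁆⁻¹ * ⁅q w, q (v * (v⁻¹ * (μ * v * μ⁻¹)))⁆) * q v := by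
      simp only [commutatorElement_def, map_mul, map_inv]
      group
    rw [e4, e3]
    group
  refine hW01.not_ge fun w hw => ⟨hW1R hw, fun v hv => ?_⟩
  obtain ⟨⟨_, v', hv', rfl⟩, hv'e⟩ := hδs ⟨qR v, Subgroup.mem_map_of_mem qR hv⟩
  have h1 : qR (v'⁻¹ * (μ * v' * μ⁻¹)) = qR v := by
    simp only [map_mul, map_inv]
    exact congrArg Subtype.val hv'e
  have h2 : (v'⁻¹ * (μ * v' * μ⁻¹))⁻¹ * v ∈ R := by
    rw [← QuotientGroup.eq_one_iff]
    show qR ((v'⁻¹ * (μ * v' * μ⁻¹))⁻¹ * v) = 1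
    rw [map_mul, map_inv, h1, inv_mul_cancel]
  have h3 : Commute (q w) (q ((v'⁻¹ * (μ * v' * μ⁻¹))⁻¹ * v)) :=
    hcom w (hW1R hw) _ (hRP h2) (hRR (Subgroup.commutator_mem_commutator (hW1R hw) h2))
  have h4 := (hkey w hw v' hv').mul_right h3
  rw [← map_mul, mul_inv_cancel_left] at h4
  exact h4

/-- Collecting a power of a product when the commutator is central. -/
theorem mul_pow_of_central {H : Type*} [Group H] (a b : H) (h : ∀ y : H, Commute ⁅b, a⁆ y) (n : ℕ) :
    (a * b) ^ n = a ^ n * b ^ n * ⁅b, a⁆ ^ (n.choose 2) := by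
  set c := ⁅b, a⁆ with hc
  have h1 : b * a = c * (a * b) := by rw [hc, commutatorElement_def]; group
  have hb : ∀ k : ℕ, b ^ k * a = c ^ k * (a * b ^ k) := by
    intro k
    induction k with
    | zero => simp
    | succ k ih =>
      calc b ^ (k + 1) * a = b ^ k * c * (a * b) := by rw [pow_succ, mul_assoc, h1, ← mul_assoc]
        _ = c * (b ^ k * a) * b := by rw [← (h (b ^ k)).eq]; simp only [mul_assoc]
        _ = c ^ (k + 1) * (a * b ^ (k + 1)) := by
            rw [ih, pow_succ' c, pow_succ b]; simp only [mul_assoc]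
  induction n with
  | zero => simp
  | succ n ih =>
    have h2 : (n + 1).choose 2 = n + n.choose 2 := by rw [Nat.choose_succ_succ', Nat.choose_one_right]
    calc (a * b) ^ (n + 1) = a ^ n * b ^ n * c ^ (n.choose 2) * (a * b) := by rw [pow_succ, ih]
      _ = a ^ n * (b ^ n * a) * b * c ^ (n.choose 2) := by
          rw [mul_assoc (a ^ n * b ^ n), ((h (a * b)).pow_left (n.choose 2)).eq]
          simp only [mul_assoc]
      _ = a ^ n * a * b ^ n * b * (c ^ n * c ^ (n.choose 2)) := by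
          rw [hb, ((h (a * b ^ n)).pow_left n).eq]
          simp only [mul_assoc]
          rw [← mul_assoc (c ^ n) b, ((h b).pow_left n).eq]
          simp only [mul_assoc]
      _ = _ := by rw [h2, pow_add c, pow_succ a n, pow_succ b n]; simp only [mul_assoc]

/-- An element outside `R` of order dividing `p`. -/
theorem exists_pow_eq_one (hP : IsPGroup p P) (hRP : R ≤ P) (hab : commutator G ≤ P)
    (hPP : ⁅P, P⁆ ≤ R) (hexp : ∀ x ∈ P, x ^ p ∈ R) (hcard : Nat.card P = p ^ r * Nat.card R)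
    (hC : ∀ x ∈ P, x ∉ R → Nat.card (Subgroup.centralizer ({x} : Set G)) ≤ p ^ r)
    (hidx : P.index = p ^ r - 1)
    (hfree : ∀ t : G, ∀ x ∈ P, x ∉ R → t * x * t⁻¹ * x⁻¹ ∈ R → t ∈ P) (hr : 2 ≤ r) (hp : p ≠ 2) :
    ∃ x ∈ P, x ∉ R ∧ x ^ p = 1 := by
  by_contra hcon
  push Not at hcon
  have hcent := commutator_commutator_eq_bot hP hRP hab hPP hcard hC hidx hfree hr
  have hcR : ∀ z ∈ R, ∀ v ∈ P, Commute z v := fun z hz v hv =>
    commutatorElement_eq_one_iff_commute.1 <| by
      have := Subgroup.commutator_mem_commutator hz hv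
      rwa [hcent, Subgroup.mem_bot] at this
  have hc : ∀ a b : P, ∀ y : P, Commute ⁅a, b⁆ y := fun a b y => Subtype.ext
    (hcR _ (hPP (Subgroup.commutator_mem_commutator a.2 b.2)) _ y.2).eq
  have hcp : ∀ a b : P, ⁅b, a⁆ ^ p = 1 := by
    intro a b
    have h1 : b ^ p * a = ⁅b, a⁆ ^ p * (a * b ^ p) := by
      have hbk : ∀ k : ℕ, b ^ k * a = ⁅b, a⁆ ^ k * (a * b ^ k) := by
        intro k
        induction k with
        | zero => simp
        | succ k ih =>
          calc b ^ (k + 1) * a = b ^ k * ⁅b, a⁆ * (a * b) := by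
                rw [pow_succ, commutatorElement_def]; group
            _ = ⁅b, a⁆ * (b ^ k * a) * b := by rw [← (hc b a (b ^ k)).eq]; simp only [mul_assoc]
            _ = _ := by rw [ih, pow_succ' ⁅b, a⁆, pow_succ b]; simp only [mul_assoc]
      exact hbk p
    have h2 : b ^ p * a = a * b ^ p := Subtype.ext (hcR _ (hexp _ b.2) _ a.2).eq
    rw [h2] at h1
    exact mul_eq_right.1 h1.symm
  let f : P →* R :=
    { toFun := fun x => ⟨(x : G) ^ p, hexp _ x.2⟩
      map_one' := Subtype.ext (one_pow _)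
      map_mul' := fun a b => by
        have h := mul_pow_of_central a b (hc b a) p
        obtain ⟨m, hm⟩ : p ∣ p.choose 2 :=
          (Fact.out : p.Prime).dvd_choose_self two_ne_zero
            (lt_of_le_of_ne (Fact.out : p.Prime).two_le (Ne.symm hp))
        rw [hm, pow_mul, hcp, one_pow, mul_one] at h
        refine Subtype.ext ?_
        show ((a * b : P) : G) ^ p = (a : G) ^ p * (b : G) ^ p
        exact_mod_cast congrArg Subtype.val h }
  have hk : f.ker ≤ R.subgroupOf P := fun x hx => by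
    rw [Subgroup.mem_subgroupOf]
    by_contra h
    exact hcon x x.2 h (congrArg Subtype.val (MonoidHom.mem_ker.1 hx))
  have h1 := f.ker.card_mul_index
  rw [Subgroup.index_ker, hcard] at h1
  have h2 : Nat.card f.ker ≤ Nat.card R := (Subgroup.card_le_of_le hk).trans
    (Nat.card_congr (Subgroup.subgroupOfEquivOfLe hRP).toEquiv).le
  have h3 : Nat.card f.range ≤ Nat.card R :=
    Nat.card_le_card_of_injective _ Subtype.val_injective
  have h4 : p ^ r * Nat.card R ≤ Nat.card R * Nat.card R := h1 ▸ Nat.mul_le_mul h2 h3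
  have h5 := card_section_lt hP hRP hPP hcard hC (by omega) ⊥ R bot_le le_rfl hcent.le
  have h6 := card_map_mk_mul ⊥ R bot_le
  rw [Subgroup.card_bot, one_mul] at h6
  rw [h6] at h5
  exact absurd (Nat.le_of_mul_le_mul_right h4 Nat.card_pos) (by omega)

end CfsgLib.OneSeen
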