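import Cfsg.Agent.OneSeen.Column
import Cfsg.Agent.OneSeen.ClassTwo
import Cfsg.Agent.S0081
import Cfsg.Agent.Coprime.Minimal

/-!
The group is solvable: the derived subgroup modulo the kernel of the character is elementary abelian
and the kernel is nilpotent (odd `p`) or has an odd normal complement (`p = 2`).
-/

set_option autoImplicit false

namespace CfsgLib.OneSeen

open Cfsg CfsgLib.Chars
open scoped commutatorElement

universe u

/-- A coset in one class and consisting of elements of prime order makes the subgroup nilpotent. -/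
theorem isNilpotent_of_coset {G : Type u} [Group G] [Finite G] {K : Subgroup G} [K.Normal] {g : G}
    {p : ℕ} [Fact p.Prime] (hconj : ∀ n ∈ K, IsConj g (g * n)) (hp : g ^ p = 1) :
    Group.IsNilpotent K := by
  refine CfsgLib.Hughes.isNilpotent_of_splits (p := p) CfsgLib.Hughes.gtHyp (Nat.card K) K
    (MulAut.conjNormal g : MulAut K) rfl ⟨by rw [← map_pow, hp, map_one], fun x => Subtype.ext ?_⟩
  have h := CfsgLib.Hughes.tprod_conjNormal g x p
  obtain ⟨y, hy⟩ := isConj_iff.1 (hconj (g⁻¹ * (x : G) * g)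
    (by simpa using Subgroup.Normal.conj_mem (H := K) inferInstance _ x.2 g⁻¹))
  have e : g * (g⁻¹ * (x : G) * g) = (x : G) * g := by group
  rw [e] at hy
  rw [hp, mul_one, ← hy, conj_pow, hp, mul_one, mul_inv_cancel] at h
  rw [h, Subgroup.coe_one]

/-- Tate's theorem for a class filling a coset of a Sylow intersection. -/
theorem hasNormalPComplement_of_class {G : Type u} [Group G] [Finite G] {p : ℕ} [Fact p.Prime]
    (K : Subgroup G) [K.Normal] (P : Sylow p G) {u : G} (hu : u ∈ (P : Subgroup G))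
    (hc : ∀ v ∈ (P : Subgroup G), v * u * v⁻¹ * u⁻¹ ∈ K)
    (hcard : Nat.card (Subgroup.centralizer ({u} : Set G)) * Nat.card (K ⊓ (P : Subgroup G) : Subgroup G) ≤
      Nat.card (P : Subgroup G)) :
    Cfsg.HasNormalPComplement p K := by
  refine Cfsg.Agent.S0081.result P K (le_trans ?_ (CfsgLib.Coprime.commutator_le_frattini_map P.2))
  have hsub : Set.range (fun v : (P : Subgroup G) => (v : G) * u * (v : G)⁻¹) ⊆
      (fun t => t * u) '' ((K ⊓ (P : Subgroup G) : Subgroup G) : Set G) := by
    rintro _ ⟨v, rfl⟩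
    exact ⟨(v : G) * u * (v : G)⁻¹ * u⁻¹,
      Subgroup.mem_inf.2 ⟨hc v v.2, mul_mem (mul_mem (mul_mem v.2 hu) (inv_mem v.2)) (inv_mem hu)⟩,
      inv_mul_cancel_right _ _⟩
  have hle : ((fun t => t * u) '' ((K ⊓ (P : Subgroup G) : Subgroup G) : Set G)).ncard ≤
      (Set.range fun v : (P : Subgroup G) => (v : G) * u * (v : G)⁻¹).ncard := by
    rw [Set.ncard_image_of_injective _ (mul_left_injective u), ← Nat.card_coe_set_eq, ← Nat.card_coe_set_eq]
    have h := CfsgLib.Camina.card_range_conj_mul (P : Subgroup G) u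
    have h2 : Nat.card ((Subgroup.centralizer ({u} : Set G)).subgroupOf (P : Subgroup G)) ≤
        Nat.card (Subgroup.centralizer ({u} : Set G)) :=
      Nat.card_le_card_of_injective (fun v => (⟨((v : (P : Subgroup G)) : G), v.2⟩ :
          Subgroup.centralizer ({u} : Set G)))
        fun a b hab => Subtype.ext (Subtype.ext (congrArg Subtype.val hab :))
    refine Nat.le_of_mul_le_mul_left (?_ : Nat.card (Subgroup.centralizer ({u} : Set G)) * _ ≤
      Nat.card (Subgroup.centralizer ({u} : Set G)) * _) Nat.card_pos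
    refine hcard.trans ?_
    rw [← h, mul_comm (Nat.card (Subgroup.centralizer ({u} : Set G)))]
    exact Nat.mul_le_mul_left _ h2
  have heq := Set.eq_of_subset_of_ncard_le hsub hle (Set.toFinite _)
  intro z hz
  obtain ⟨⟨v, hv⟩, hve⟩ := heq.symm.subset ⟨z, hz, rfl⟩
  change v * u * v⁻¹ = z * u at hve
  have : z = ⁅v, u⁆ := by
    rw [commutatorElement_def, hve, mul_inv_cancel_right]
  rw [this]
  exact Subgroup.commutator_mem_commutator hv hu

theorem isSolvable_of_complement
    (FT : ∀ {H : Type u} [Group H] [Finite H], Odd (Nat.card H) → Group.IsSolvable H)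
    {G : Type u} [Group G] [Finite G] (h : Cfsg.HasNormalPComplement 2 G) : Group.IsSolvable G := by
  obtain ⟨P, M, hMn, hMc⟩ := h
  haveI := hMn
  haveI : Fact (Nat.Prime 2) := ⟨Nat.prime_two⟩
  have hodd : Odd (Nat.card M) := by
    have hi : (P : Subgroup G).index = Nat.card M := hMc.index_eq_card
    rw [Nat.odd_iff, ← Nat.two_dvd_ne_zero, ← hi]
    exact P.not_dvd_index
  have hq : IsPGroup 2 (G ⧸ M) := P.2.of_equiv hMc.symm.QuotientMulEquiv.symm
  haveI : Group.IsNilpotent (G ⧸ M) := hq.isNilpotent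
  exact (Group.isSolvable_iff_subgroup_quotient M).2 ⟨FT hodd, inferInstance⟩

variable {G : Type u} [Group G] [Finite G] {g : G} {χ : IrrCharacter G}

/-- The group is solvable. -/
theorem Hyp.isSolvable (FT : ∀ {H : Type u} [Group H] [Finite H], Odd (Nat.card H) → Group.IsSolvable H)
    (h : Hyp g χ) : Group.IsSolvable G := by
  classical
  set K := charKer (χ : G → ℂ) with hKdef
  set D := commutator G with hDdef
  let mk := QuotientGroup.mk' K
  set Db := D.map mk with hDb
  set a := D.index with hadef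
  set q := Nat.card Db with hqdef
  have hKD : K ≤ D := h.charKer_le
  haveI : Db.Normal := Subgroup.Normal.map inferInstance mk (QuotientGroup.mk'_surjective K)
  have hDcard : Nat.card K * q = Nat.card D := card_map_mk_mul K D hKD
  have haq : a * q = Nat.card (G ⧸ K) := by
    apply Nat.eq_of_mul_eq_mul_left (Nat.card_pos : 0 < Nat.card K)
    rw [← Subgroup.index_eq_card, Subgroup.card_mul_index, mul_left_comm, hDcard, hadef, Subgroup.index_mul_card]
  have ha : a ≠ 0 := Subgroup.index_ne_zero_of_finite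
  -- conjugacy in the quotient
  have hgb : mk g ≠ 1 := fun e => h.not_mem_charKer ((QuotientGroup.eq_one_iff g).1 e)
  have hgD : mk g ∈ Db := Subgroup.mem_map_of_mem mk h.mem_commutator
  have hconj : ∀ z ∈ Db, z ≠ 1 → ∃ c, c * mk g * c⁻¹ = z := by
    rintro _ ⟨x, hx, rfl⟩ hne
    obtain ⟨c, hc⟩ := isConj_iff.1 (h.isConj_iff_mem.2 ⟨hx, fun hk => hne ((QuotientGroup.eq_one_iff x).2 hk)⟩)
    exact ⟨mk c, by rw [← map_inv, ← map_mul, ← map_mul, hc]⟩
  have hnc : ∀ c : G ⧸ K, c * mk g * c⁻¹ ∈ Db ∧ c * mk g * c⁻¹ ≠ 1 := fun c =>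
    ⟨Subgroup.Normal.conj_mem inferInstance _ hgD c, fun e => hgb (conj_eq_one_iff.1 e)⟩
  have hq2 : 2 ≤ q := by
    rw [hqdef]
    exact Finite.one_lt_card_iff_nontrivial.2 ((Subgroup.nontrivial_iff_ne_bot Db).2 fun e => hgb (by rwa [e, Subgroup.mem_bot] at hgD))
  -- the class of g and its centraliser
  have hclass : (q - 1) * Nat.card (Subgroup.centralizer ({g} : Set G)) = a * q := by
    have h1 := card_isConj_mul_card_centralizer g
    have h2 : Nat.card {x : G // IsConj g x} = Nat.card K * (q - 1) := by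
      have hset : {x : G | IsConj g x} = (D : Set G) \ (K : Set G) := Set.ext fun x => h.isConj_iff_mem
      show Nat.card ({x : G | IsConj g x} : Set G) = _
      rw [Nat.card_coe_set_eq, hset, Set.ncard_diff (show (K : Set G) ⊆ (D : Set G) from hKD),
        ← Nat.card_coe_set_eq, ← Nat.card_coe_set_eq, Nat.mul_sub_one, hDcard]
      rfl
    apply Nat.eq_of_mul_eq_mul_left (Nat.card_pos : 0 < Nat.card K)
    rw [← mul_assoc, ← h2, h1, haq, ← Subgroup.index_eq_card, Subgroup.card_mul_index]
  set C := Subgroup.centralizer ({mk g} : Set (G ⧸ K)) with hCdef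
  have hclassQ : (q - 1) * Nat.card C = a * q := by
    have h1 := card_isConj_mul_card_centralizer (mk g)
    have hset : {x : G ⧸ K | IsConj (mk g) x} = (Db : Set (G ⧸ K)) \ {1} := by
      ext z
      constructor
      · intro hz
        obtain ⟨c, rfl⟩ := isConj_iff.1 hz
        exact hnc c
      · rintro ⟨hz, hz1⟩
        obtain ⟨c, hc⟩ := hconj z hz hz1
        exact isConj_iff.2 ⟨c, hc⟩
    have h2 : Nat.card {x : G ⧸ K // IsConj (mk g) x} = q - 1 := by
      show Nat.card ({x : G ⧸ K | IsConj (mk g) x} : Set (G ⧸ K)) = _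
      rw [Nat.card_coe_set_eq, hset, Set.ncard_diff_singleton_of_mem (one_mem Db), ← Nat.card_coe_set_eq]
      rfl
    rw [h2] at h1
    rw [haq, ← h1]
  have hCcard : Nat.card C = Nat.card (Subgroup.centralizer ({g} : Set G)) :=
    Nat.eq_of_mul_eq_mul_left (by omega : 0 < q - 1) (hclassQ.trans hclass.symm)
  -- the prime
  have hord : ∀ z ∈ Db, z ≠ 1 → orderOf z = orderOf (mk g) := by
    intro z hz hz1
    obtain ⟨c, rfl⟩ := hconj z hz hz1
    exact orderOf_injective (MulAut.conj c).toMonoidHom (MulAut.conj c).injective (mk g)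
  obtain ⟨p, hp, hpo⟩ : ∃ p : ℕ, p.Prime ∧ orderOf (mk g) = p := by
    have hm : orderOf (mk g) ≠ 1 := fun e => hgb (orderOf_eq_one_iff.1 e)
    refine ⟨(orderOf (mk g)).minFac, Nat.minFac_prime hm, ?_⟩
    set m := orderOf (mk g) with hmdef
    have hz : orderOf (mk g ^ (m / m.minFac)) = m.minFac :=
      orderOf_pow_orderOf_div (orderOf_pos _).ne' (Nat.minFac_dvd _)
    have hz1 : mk g ^ (m / m.minFac) ≠ 1 := fun e => by
      rw [e, orderOf_one] at hz
      exact (Nat.minFac_prime hm).ne_one hz.symm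
    rw [hord _ (pow_mem hgD _) hz1] at hz
    exact hz
  haveI : Fact p.Prime := ⟨hp⟩
  have hpow : ∀ z ∈ Db, z ^ p = 1 := by
    intro z hz
    rcases eq_or_ne z 1 with rfl | hz1
    · exact one_pow p
    · rw [← hpo, ← hord z hz hz1, pow_orderOf_eq_one]
  have hDp : IsPGroup p Db := fun z => ⟨1, Subtype.ext (by simpa using hpow z z.2)⟩
  have hab : ∀ x ∈ Db, ∀ y ∈ Db, x * y = y * x := by
    have hlt := CfsgLib.GlaubermanZJ.commutator_lt_of_isPGroup hDp (fun e => hgb (by rwa [e, Subgroup.mem_bot] at hgD))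
    have hbot : ⁅Db, Db⁆ = ⊥ := by
      by_contra hne
      obtain ⟨⟨z, hz⟩, hz1⟩ := Subgroup.ne_bot_iff_exists_ne_one.1 hne
      have hz1' : z ≠ 1 := fun e => hz1 (Subtype.ext e)
      refine hlt.not_ge fun w hw => ?_
      rcases eq_or_ne w 1 with rfl | hw1
      · exact one_mem _
      · obtain ⟨c, hc⟩ := hconj z (hlt.le hz) hz1'
        obtain ⟨d, hd⟩ := hconj w hw hw1
        have hmem := Subgroup.Normal.conj_mem (inferInstance : (⁅Db, Db⁆).Normal) z hz (d * c⁻¹)
        convert hmem using 1
        rw [← hd, ← hc]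
        group
    intro x hx y hy
    have h1 := Subgroup.commutator_mem_commutator hx hy
    rw [hbot, Subgroup.mem_bot, commutatorElement_eq_one_iff_commute] at h1
    exact h1
  have hcomm : commutator (G ⧸ K) = Db := by
    rw [hDb, hDdef, commutator_def, commutator_def, Subgroup.map_commutator,
      Subgroup.map_top_of_surjective _ (QuotientGroup.mk'_surjective K)]
  haveI : IsMulCommutative Db := ⟨⟨fun x y => Subtype.ext (hab x x.2 y y.2)⟩⟩
  have hquot : Group.IsSolvable (G ⧸ K) := by
    refine (Group.isSolvable_iff_subgroup_quotient Db).2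
      ⟨Group.isSolvable_of_comm fun x y => Subtype.ext (hab x x.2 y y.2), ?_⟩
    refine Group.isSolvable_of_comm fun x y => ?_
    obtain ⟨x, rfl⟩ := QuotientGroup.mk_surjective x
    obtain ⟨y, rfl⟩ := QuotientGroup.mk_surjective y
    rw [← commutatorElement_eq_one_iff_mul_comm]
    refine (QuotientGroup.eq_one_iff ⁅x, y⁆).2 ?_
    rw [← hcomm]
    exact Subgroup.commutator_mem_commutator (Subgroup.mem_top x) (Subgroup.mem_top y)
  refine (Group.isSolvable_iff_subgroup_quotient K).2 ⟨?_, hquot⟩
  -- the structure for q at least three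
  have hbig : 3 ≤ q → a = q - 1 ∧ C = Db := by
    intro hq3
    have hDC : Db ≤ C := fun z hz => Subgroup.mem_centralizer_singleton_iff.2 (hab z hz _ hgD)
    have hCn : ∀ c ∈ C, ∀ x : G ⧸ K, x * c * x⁻¹ ∈ C := fun c hc x => by
      have : ⁅x, c⁆ ∈ Db := hcomm ▸ Subgroup.commutator_mem_commutator (Subgroup.mem_top x) (Subgroup.mem_top c)
      have h1 := mul_mem (hDC this) hc
      rwa [commutatorElement_def, inv_mul_cancel_right] at h1
    haveI hCN : C.Normal := ⟨hCn⟩
    have hCcen : ∀ c ∈ C, ∀ z ∈ Db, Commute c z := by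
      intro c hc z hz
      rcases eq_or_ne z 1 with rfl | hz1
      · exact Commute.one_right c
      · obtain ⟨d, rfl⟩ := hconj z hz hz1
        have h1 := Subgroup.mem_centralizer_singleton_iff.1 (hCn c hc d⁻¹)
        rw [inv_inv] at h1
        calc c * (d * mk g * d⁻¹) = d * (d⁻¹ * c * d * mk g) * d⁻¹ := by group
          _ = d * (mk g * (d⁻¹ * c * d)) * d⁻¹ := by rw [h1]
          _ = d * mk g * d⁻¹ * c := by group
    have hindexC : C.index = q - 1 := by
      apply Nat.eq_of_mul_eq_mul_right (Nat.card_pos : 0 < Nat.card C)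
      rw [Subgroup.index_mul_card, hclassQ, haq]
    obtain ⟨w, hwC⟩ : ∃ w, w ∉ C := by
      by_contra hall
      push Not at hall
      rw [show C = ⊤ from eq_top_iff.2 fun x _ => hall x, Subgroup.index_top] at hindexC
      omega
    obtain ⟨u, rfl⟩ := QuotientGroup.mk'_surjective K w
    have huD : u ∉ commutator G := fun hu => hwC (hDC (Subgroup.mem_map_of_mem mk hu))
    have hA := h.card_centralizer_quotient huD
    set A := Subgroup.centralizer ({(u : G ⧸ K)} : Set (G ⧸ K)) with hAdef
    change Nat.card A = a at hA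
    have hAD : ∀ z ∈ A, z ∈ Db → z = 1 := by
      intro z hzA hz
      by_contra hz1
      obtain ⟨d, rfl⟩ := hconj z hz hz1
      have h1 := Subgroup.mem_centralizer_singleton_iff.1 hzA
      refine hwC ?_
      have h2 : d⁻¹ * (u : G ⧸ K) * d ∈ C := by
        rw [Subgroup.mem_centralizer_singleton_iff]
        calc d⁻¹ * (u : G ⧸ K) * d * mk g = d⁻¹ * ((u : G ⧸ K) * (d * mk g * d⁻¹)) * d := by group
          _ = d⁻¹ * ((d * mk g * d⁻¹) * (u : G ⧸ K)) * d := by rw [h1]
          _ = mk g * (d⁻¹ * (u : G ⧸ K) * d) := by group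
      simpa [mul_assoc] using hCn _ h2 d
    have hcompl : Subgroup.IsComplement' A Db := by
      refine Subgroup.isComplement'_of_card_mul_and_disjoint (by rw [hA, haq]) ?_
      rw [disjoint_iff, eq_bot_iff]
      exact fun z hz => Subgroup.mem_bot.2 (hAD z hz.1 hz.2)
    have hAab : ∀ x ∈ A, ∀ y ∈ A, x * y = y * x := fun x hx y hy => by
      rw [← commutatorElement_eq_one_iff_mul_comm]
      exact hAD _ (mul_mem (mul_mem (mul_mem hx hy) (inv_mem hx)) (inv_mem hy))
        (hcomm ▸ Subgroup.commutator_mem_commutator (Subgroup.mem_top x) (Subgroup.mem_top y))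
    have hAC : ∀ z ∈ A, z ∈ C → z = 1 := by
      intro z hzA hzC
      have hzc : z ∈ Subgroup.center (G ⧸ K) := Subgroup.mem_center_iff.2 fun y => by
        obtain ⟨⟨⟨x, hx⟩, ⟨d, hd⟩⟩, rfl⟩ := hcompl.2 y
        exact ((show Commute x z from hAab x hx z hzA).mul_left (hCcen z hzC d hd).symm).eq
      refine hAD z hzA ?_
      obtain ⟨z0, rfl⟩ := QuotientGroup.mk'_surjective K z
      by_contra hzD
      have hz0 : z0 ∉ commutator G := fun e => hzD (Subgroup.mem_map_of_mem mk e)
      obtain ⟨ψ, hψ⟩ := exists_inflate_eq K χ le_rfl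
      have h1 := norm_map_of_mem_center ψ hzc
      have e1 : (χ : G → ℂ) z0 = (ψ : G ⧸ K → ℂ) (mk z0) := (congrFun (congrArg Subtype.val hψ) z0).symm
      rw [← e1, h.apply_outside hz0, norm_zero] at h1
      exact map_one_ne_zero ψ (norm_eq_zero.1 h1.symm)
    have hle : a ≤ q - 1 := by
      rw [← hA, ← hindexC, Subgroup.index_eq_card]
      refine Nat.card_le_card_of_injective (fun x : A => QuotientGroup.mk' C x) fun x y hxy => ?_
      refine Subtype.ext (mul_inv_eq_one.1 (hAC _ (mul_mem x.2 (inv_mem y.2)) ?_))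
      rw [← QuotientGroup.eq_one_iff]
      show QuotientGroup.mk' C ((x : G ⧸ K) * (y : G ⧸ K)⁻¹) = 1
      rw [map_mul, map_inv]
      exact mul_inv_eq_one.2 hxy
    have hDbi : Db.index = a := by
      apply Nat.eq_of_mul_eq_mul_right (Nat.card_pos : 0 < Nat.card Db)
      rw [Subgroup.index_mul_card, ← haq]
    have hge : q - 1 ≤ a := by
      rw [← hindexC, ← hDbi]
      exact Nat.le_of_dvd (Nat.pos_of_ne_zero Subgroup.index_ne_zero_of_finite) (Subgroup.index_dvd_of_le hDC)
    refine ⟨le_antisymm hle hge, (Subgroup.eq_of_le_of_card_ge hDC ?_).symm⟩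
    have e : (q - 1) * Nat.card C = (q - 1) * q := by rw [hclassQ, le_antisymm hle hge]
    exact (Nat.eq_of_mul_eq_mul_left (by omega) e).le
  obtain ⟨r, hr⟩ := IsPGroup.iff_card.1 hDp
  rw [← hqdef] at hr
  have hr0 : r ≠ 0 := by rintro rfl; rw [pow_zero] at hr; omega
  -- a Sylow subgroup
  have P : Sylow p G := Classical.arbitrary _
  set Pb := (P : Subgroup G).map mk with hPb
  have hDP : Db ≤ Pb := by
    have := hDp.exists_le_sylow
    obtain ⟨Q, hQ⟩ := this
    let P' : Sylow p (G ⧸ K) := P.mapSurjective (QuotientGroup.mk'_surjective K)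
    obtain ⟨c, hc⟩ := MulAction.exists_smul_eq (G ⧸ K) Q P'
    have hPb' : Pb = ((c • Q : Sylow p (G ⧸ K)) : Subgroup (G ⧸ K)) := by
      rw [hc]; exact (Sylow.coe_mapSurjective _ P).symm
    intro z hz
    rw [hPb', Sylow.coe_subgroup_smul, Subgroup.mem_pointwise_smul_iff_inv_smul_mem]
    refine hQ ?_
    show (MulAut.conj c)⁻¹ z ∈ Db
    rw [← map_inv, MulAut.conj_apply]
    exact Subgroup.Normal.conj_mem inferInstance z hz c⁻¹
  obtain ⟨u, (huP : u ∈ (P : Subgroup G)), hug⟩ := hDP hgD
  have hu : u ∈ D ∧ u ∉ K := by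
    refine ⟨?_, fun hk => hgb (hug ▸ (QuotientGroup.eq_one_iff u).2 hk)⟩
    have h1 : u ∈ Db.comap mk := by rw [Subgroup.mem_comap, hug]; exact hgD
    rwa [hDb, Subgroup.comap_map_eq, QuotientGroup.ker_mk', sup_eq_left.2 hKD] at h1
  have hcc : ∀ x ∈ D, x ∉ K → Nat.card (Subgroup.centralizer ({x} : Set G)) = Nat.card C := by
    intro x hx hxK
    obtain ⟨c, rfl⟩ := isConj_iff.1 (h.isConj_iff_mem.2 ⟨hx, hxK⟩)
    rw [hCcard]
    symm
    have e : (Subgroup.centralizer ({g} : Set G)).map (MulAut.conj c).toMonoidHom =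
        Subgroup.centralizer ({c * g * c⁻¹} : Set G) := by
      ext y
      rw [Subgroup.mem_map_equiv, Subgroup.mem_centralizer_singleton_iff,
        Subgroup.mem_centralizer_singleton_iff, MulAut.conj_symm_apply]
      constructor
      · intro e
        calc y * (c * g * c⁻¹) = c * (c⁻¹ * y * c * g) * c⁻¹ := by group
          _ = c * (g * (c⁻¹ * y * c)) * c⁻¹ := by rw [e]
          _ = _ := by group
      · intro e
        calc c⁻¹ * y * c * g = c⁻¹ * (y * (c * g * c⁻¹)) * c := by group
          _ = c⁻¹ * (c * g * c⁻¹ * y) * c := by rw [e]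
          _ = _ := by group
    rw [← e]
    exact Nat.card_congr (Subgroup.equivMapOfInjective _ _ (MulAut.conj c).injective).toEquiv
  have hPcard : Nat.card (K ⊓ (P : Subgroup G) : Subgroup G) * Nat.card Pb = Nat.card (P : Subgroup G) := by
    have hk := (mk.comp (P : Subgroup G).subtype).ker.card_mul_index
    rw [Subgroup.index_ker, MonoidHom.range_comp, Subgroup.range_subtype, ← MonoidHom.comap_ker,
      QuotientGroup.ker_mk'] at hk
    rw [← hk]
    congr 1
    exact Nat.card_congr
      { toFun := fun x => ⟨⟨(x : G), x.2.2⟩, x.2.1⟩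
        invFun := fun x => ⟨((x : (P : Subgroup G)) : G), x.2, (x : (P : Subgroup G)).2⟩
        left_inv := fun _ => rfl
        right_inv := fun _ => rfl }
  have hPb3 : 3 ≤ q → Pb = Db := by
    intro hq3
    obtain ⟨haq1, -⟩ := hbig hq3
    refine (Subgroup.eq_of_le_of_card_ge hDP ?_).symm
    obtain ⟨k, hk⟩ := IsPGroup.iff_card.1 (P.2.map mk)
    rw [← hPb] at hk
    have hdvd : p ^ k ∣ a * q := by rw [haq, ← hk]; exact Subgroup.card_subgroup_dvd_card _
    have hcop : Nat.Coprime (p ^ k) a := by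
      refine (hp.coprime_iff_not_dvd.2 fun hd => ?_).pow_left k
      have h1 : p ∣ q := hr ▸ dvd_pow_self p hr0
      have h2 : p ∣ q - a := Nat.dvd_sub h1 hd
      rw [show q - a = 1 from by omega] at h2
      exact hp.ne_one (Nat.dvd_one.1 h2)
    rw [hk, ← hqdef]
    exact Nat.le_of_dvd (by omega) (hcop.dvd_of_dvd_mul_left hdvd)
  by_cases hp2 : p = 2
  · subst hp2
    refine isSolvable_of_complement FT (hasNormalPComplement_of_class K P huP ?_ ?_)
    · intro v hv
      rw [← QuotientGroup.eq_one_iff]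
      show mk (v * u * v⁻¹ * u⁻¹) = 1
      rw [map_mul, map_mul, map_mul, map_inv, map_inv, hug, mul_inv_eq_one]
      rcases Nat.lt_or_ge q 3 with hlt | hge
      · obtain ⟨h1, h2⟩ := hnc (mk v)
        by_contra hne
        have hsub : ({1, mk g, mk v * mk g * (mk v)⁻¹} : Set (G ⧸ K)) ⊆ (Db : Set (G ⧸ K)) := by
          rintro z (rfl | rfl | rfl)
          · exact one_mem _
          · exact hgD
          · exact h1
        have hle := Set.ncard_le_ncard hsub (Set.toFinite _)
        rw [Set.ncard_eq_three.2 ⟨1, mk g, mk v * mk g * (mk v)⁻¹, hgb.symm, h2.symm, Ne.symm hne, rfl⟩,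
          ← Nat.card_coe_set_eq] at hle
        change 3 ≤ q at hle
        omega
      · have hvD : mk v ∈ Db := hPb3 hge ▸ Subgroup.mem_map_of_mem mk hv
        rw [hab _ hvD _ hgD, mul_inv_cancel_right]
    · rw [hcc u hu.1 hu.2, ← hPcard, mul_comm]
      refine Nat.mul_le_mul_left _ ?_
      rcases Nat.lt_or_ge q 3 with hlt | hge
      · -- the quotient is a 2-group
        have hcen : ∀ z ∈ Db, ∀ y : G ⧸ K, y * z = z * y := by
          intro z hz y
          rcases eq_or_ne z 1 with rfl | hz1
          · simp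
          by_contra hne
          have h3 : y * z * y⁻¹ ∈ Db := Subgroup.Normal.conj_mem inferInstance z hz y
          have hsub : ({1, z, y * z * y⁻¹} : Set (G ⧸ K)) ⊆ (Db : Set (G ⧸ K)) := by
            rintro w (rfl | rfl | rfl)
            · exact one_mem _
            · exact hz
            · exact h3
          have hle := Set.ncard_le_ncard hsub (Set.toFinite _)
          rw [Set.ncard_eq_three.2 ⟨1, z, y * z * y⁻¹, hz1.symm, fun e => hz1 (conj_eq_one_iff.1 e.symm),
            fun e => hne (eq_mul_inv_iff_mul_eq.1 e).symm, rfl⟩, ← Nat.card_coe_set_eq] at hle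
          change 3 ≤ q at hle
          omega
        have hsq : ∀ y : G ⧸ K, y ^ 2 ∈ Subgroup.center (G ⧸ K) := by
          intro y
          rw [Subgroup.mem_center_iff]
          intro x
          have hc1 : ⁅y, x⁆ ∈ Db := hcomm ▸ Subgroup.commutator_mem_commutator (Subgroup.mem_top y) (Subgroup.mem_top x)
          have e : ⁅y ^ 2, x⁆ = 1 := by
            have : ⁅y ^ 2, x⁆ = y * ⁅y, x⁆ * y⁻¹ * ⁅y, x⁆ := by
              rw [commutatorElement_def, commutatorElement_def, sq]; group
            rw [this, hcen _ hc1 y, mul_inv_cancel_right, ← sq, hpow _ hc1]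
          exact ((commutatorElement_eq_one_iff_commute.1 e).symm).eq
        have h4 : IsPGroup 2 (G ⧸ K) := by
          intro y
          refine ⟨2, ?_⟩
          have hyD : y ^ 2 ∈ Db := by
            by_contra hyD
            obtain ⟨z0, hz0⟩ := QuotientGroup.mk'_surjective K (y ^ 2)
            obtain ⟨ψ, hψ⟩ := exists_inflate_eq K χ le_rfl
            have h1 := norm_map_of_mem_center ψ (hsq y)
            have e1 : (χ : G → ℂ) z0 = (ψ : G ⧸ K → ℂ) (y ^ 2) :=
              (congrFun (congrArg Subtype.val hψ) z0).symm.trans (congrArg (ψ : G ⧸ K → ℂ) hz0)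
            rw [← e1, h.apply_outside (fun e => hyD (hz0 ▸ Subgroup.mem_map_of_mem mk e)), norm_zero] at h1
            exact map_one_ne_zero ψ (norm_eq_zero.1 h1.symm)
          rw [pow_succ, pow_one, pow_mul]
          exact hpow _ hyD
        let P' : Sylow 2 (G ⧸ K) := P.mapSurjective (QuotientGroup.mk'_surjective K)
        have hPtop : (⊤ : Subgroup (G ⧸ K)) = (P' : Subgroup (G ⧸ K)) :=
          P'.3 (h4.to_subgroup ⊤) le_top
        rw [hPb, ← Sylow.coe_mapSurjective (QuotientGroup.mk'_surjective K) P]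
        exact Subgroup.card_le_of_le (hPtop ▸ le_top)
      · rw [(hbig hge).2]
        exact Subgroup.card_le_of_le hDP
  · -- odd characteristic: an element of order p outside K
    have hq3 : 3 ≤ q := by
      have h3 : 3 ≤ p := lt_of_le_of_ne hp.two_le (Ne.symm hp2)
      exact hr ▸ h3.trans (Nat.le_self_pow hr0 p)
    obtain ⟨haq1, hCD⟩ := hbig hq3
    have hCq : Nat.card C = q := by rw [hCD]
    suffices hgp : g ^ p = 1 by
      have hn : Group.IsNilpotent K := isNilpotent_of_coset (g := g) (fun n hn => h.isConj_iff_mem.2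
        ⟨mul_mem h.mem_commutator (hKD hn), fun e => h.not_mem_charKer ((mul_mem_cancel_right hn).1 e)⟩) hgp
      haveI := hn
      infer_instance
    by_cases hr1 : r = 1
    · have hmem : g ∈ Subgroup.centralizer ({g} : Set G) := Subgroup.mem_centralizer_singleton_iff.2 rfl
      have h1 : orderOf g ∣ p := by
        have := orderOf_dvd_natCard (⟨g, hmem⟩ : Subgroup.centralizer ({g} : Set G))
        rwa [Subgroup.orderOf_mk, ← hCcard, hCq, hr, hr1, pow_one] at this
      exact orderOf_dvd_iff_pow_eq_one.1 h1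
    -- inside the normaliser
    have hPD : (P : Subgroup G) ≤ D := fun v hv => by
      have h1 : v ∈ Db.comap mk := by rw [Subgroup.mem_comap, ← hPb3 hq3]; exact Subgroup.mem_map_of_mem mk hv
      rwa [hDb, Subgroup.comap_map_eq, QuotientGroup.ker_mk', sup_eq_left.2 hKD] at h1
    set N := Subgroup.normalizer ((P : Subgroup G) : Set G) with hN
    have hPN : (P : Subgroup G) ≤ N := Subgroup.le_normalizer
    set PN := (P : Subgroup G).subgroupOf N with hPNdef
    set RN := K.subgroupOf N ⊓ PN with hRNdef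
    haveI : PN.Normal := Subgroup.normal_in_normalizer
    haveI : (K.subgroupOf N).Normal := Subgroup.Normal.subgroupOf inferInstance _
    have hDK : ∀ x ∈ D, ∀ y ∈ D, ⁅x, y⁆ ∈ K := fun x hx y hy => by
      rw [← QuotientGroup.eq_one_iff]
      show mk ⁅x, y⁆ = 1
      rw [map_commutatorElement, commutatorElement_eq_one_iff_mul_comm]
      exact hab _ (Subgroup.mem_map_of_mem mk hx) _ (Subgroup.mem_map_of_mem mk hy)
    have hP1 : IsPGroup p PN := P.2.comap_of_injective _ N.subtype_injective
    have hqp : Nat.card (Subgroup.centralizer ({u} : Set G)) = p ^ r := by rw [hcc u hu.1 hu.2, hCq, hr]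
    have hND : ∀ t ∈ N, t ∈ D → t ∈ (P : Subgroup G) := by
      intro t htN htD
      have htu : t * u * t⁻¹ * u⁻¹ ∈ K := hDK t htD u hu.1
      have htP : t * u * t⁻¹ * u⁻¹ ∈ (P : Subgroup G) :=
        mul_mem ((Subgroup.mem_normalizer_iff.1 htN u).1 huP) (inv_mem huP)
      have hsub : Set.range (fun v : (P : Subgroup G) => (v : G) * u * (v : G)⁻¹) =
          (fun z => z * u) '' ((K ⊓ (P : Subgroup G) : Subgroup G) : Set G) := by
        refine Set.eq_of_subset_of_ncard_le ?_ ?_ (Set.toFinite _)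
        · rintro _ ⟨v, rfl⟩
          exact ⟨(v : G) * u * (v : G)⁻¹ * u⁻¹, Subgroup.mem_inf.2 ⟨hDK v (hPD v.2) u hu.1,
            mul_mem (mul_mem (mul_mem v.2 huP) (inv_mem v.2)) (inv_mem huP)⟩, inv_mul_cancel_right _ _⟩
        · rw [Set.ncard_image_of_injective _ (mul_left_injective u), ← Nat.card_coe_set_eq, ← Nat.card_coe_set_eq]
          have hm := CfsgLib.Camina.card_range_conj_mul (P : Subgroup G) u
          have h2 : Nat.card ((Subgroup.centralizer ({u} : Set G)).subgroupOf (P : Subgroup G)) ≤ q :=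
            le_of_le_of_eq (Nat.card_le_card_of_injective (fun v => (⟨((v : (P : Subgroup G)) : G), v.2⟩ :
                Subgroup.centralizer ({u} : Set G)))
              fun a b hab => Subtype.ext (Subtype.ext (congrArg Subtype.val hab :))) (hqp.trans hr.symm)
          rw [hPb3 hq3] at hPcard
          refine Nat.le_of_mul_le_mul_right ?_ (by omega : 0 < q)
          calc Nat.card (K ⊓ (P : Subgroup G) : Subgroup G) * q = Nat.card (P : Subgroup G) := hPcard
            _ = _ := hm.symm
            _ ≤ _ := Nat.mul_le_mul_left _ h2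
      obtain ⟨⟨v, hv⟩, hve⟩ := hsub.symm.subset ⟨_, ⟨htu, htP⟩, rfl⟩
      change v * u * v⁻¹ = t * u * t⁻¹ * u⁻¹ * u at hve
      rw [inv_mul_cancel_right] at hve
      have hy : v⁻¹ * t ∈ Subgroup.centralizer ({u} : Set G) := by
        rw [Subgroup.mem_centralizer_singleton_iff]
        calc v⁻¹ * t * u = v⁻¹ * (t * u * t⁻¹) * t := by group
          _ = v⁻¹ * (v * u * v⁻¹) * t := by rw [hve]
          _ = u * (v⁻¹ * t) := by group
      have hyp : IsPGroup p (Subgroup.zpowers (v⁻¹ * t)) := by
        refine (IsPGroup.of_card hqp).to_le ?_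
        rwa [Subgroup.zpowers_le]
      have hyN : Subgroup.zpowers (v⁻¹ * t) ≤ N := Subgroup.zpowers_le.2 (mul_mem (inv_mem (hPN hv)) htN)
      have hsupP : IsPGroup p (Subgroup.zpowers (v⁻¹ * t) ⊔ (P : Subgroup G) : Subgroup G) :=
        IsPGroup.to_sup_of_normal_right' hyp P.2 hyN
      have he := P.3 hsupP le_sup_right
      have hy2 : v⁻¹ * t ∈ (P : Subgroup G) := he ▸ Subgroup.mem_sup_left (Subgroup.mem_zpowers _)
      have := mul_mem hv hy2
      rwa [mul_inv_cancel_left] at this
    have hcardN : Nat.card PN = p ^ r * Nat.card RN := by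
      have e1 : RN = (K ⊓ (P : Subgroup G)).subgroupOf N := rfl
      rw [e1, Nat.card_congr (Subgroup.subgroupOfEquivOfLe (inf_le_right.trans hPN)).toEquiv,
        Nat.card_congr (Subgroup.subgroupOfEquivOfLe hPN).toEquiv, ← hPcard, hPb3 hq3, ← hqdef, hr, mul_comm]
    have hidxN : PN.index = p ^ r - 1 := by
      have hPNeq : PN = ((QuotientGroup.mk' D).comp N.subtype).ker := by
        ext t
        rw [MonoidHom.mem_ker, MonoidHom.comp_apply, Subgroup.mem_subgroupOf]
        exact ⟨fun ht => (QuotientGroup.eq_one_iff _).2 (hPD ht),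
          fun ht => hND t t.2 ((QuotientGroup.eq_one_iff _).1 ht)⟩
      have hsurj : ((QuotientGroup.mk' D).comp N.subtype).range = ⊤ := by
        rw [MonoidHom.range_comp, Subgroup.range_subtype, eq_top_iff]
        intro z _
        obtain ⟨x, rfl⟩ := QuotientGroup.mk'_surjective D z
        have htop : N ⊔ D = ⊤ := Sylow.normalizer_sup_eq_top' P hPD
        have hx : x ∈ N ⊔ D := by rw [htop]; trivial
        have := Subgroup.mem_map_of_mem (QuotientGroup.mk' D) hx
        rwa [Subgroup.map_sup, (Subgroup.map_eq_bot_iff D).2 (by rw [QuotientGroup.ker_mk']), sup_bot_eq] at this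
      rw [hPNeq, Subgroup.index_ker, hsurj, Subgroup.card_top, ← Subgroup.index_eq_card, ← hadef, haq1, hr]
    have hgoal : ∃ x ∈ PN, x ∉ RN ∧ x ^ p = 1 := by
      refine exists_pow_eq_one (r := r) hP1 inf_le_right ?_ ?_ ?_ hcardN ?_ hidxN ?_ (by omega) hp2
      · rw [commutator_def, Subgroup.commutator_le]
        rintro ⟨x, hx⟩ _ ⟨y, hy⟩ _
        exact hND _ (mul_mem (mul_mem (mul_mem hx hy) (inv_mem hx)) (inv_mem hy))
          (Subgroup.commutator_mem_commutator (Subgroup.mem_top x) (Subgroup.mem_top y))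
      · rw [Subgroup.commutator_le]
        rintro x hx y hy
        exact ⟨hDK _ (hPD hx) _ (hPD hy), (mul_mem (mul_mem (mul_mem hx hy) (inv_mem hx)) (inv_mem hy) :)⟩
      · intro x hx
        refine ⟨?_, pow_mem hx p⟩
        show ((x ^ p : N) : G) ∈ K
        rw [SubmonoidClass.coe_pow, ← QuotientGroup.eq_one_iff]
        show mk ((x : G) ^ p) = 1
        rw [map_pow]
        exact hpow _ (Subgroup.mem_map_of_mem mk (hPD hx))
      · intro x hx hxR
        have hxK : (x : G) ∉ K := fun e => hxR ⟨e, hx⟩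
        rw [← hr, ← hCq, ← hcc _ (hPD hx) hxK]
        refine Nat.card_le_card_of_injective (fun y => (⟨((y : N) : G), ?_⟩ :
          Subgroup.centralizer ({(x : G)} : Set G))) fun a b hab => Subtype.ext (Subtype.ext (congrArg Subtype.val hab :))
        rw [Subgroup.mem_centralizer_singleton_iff]
        exact congrArg Subtype.val (Subgroup.mem_centralizer_singleton_iff.1 y.2)
      · intro t x hx hxR htx
        refine hND t t.2 ?_
        have hxK : (x : G) ∉ K := fun e => hxR ⟨e, hx⟩
        have h1 : mk ((t : G) * x * (t : G)⁻¹ * (x : G)⁻¹) = 1 := (QuotientGroup.eq_one_iff _).2 htx.1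
        obtain ⟨c, hc⟩ := hconj (mk (x : G)) (Subgroup.mem_map_of_mem mk (hPD hx))
          (fun e => hxK ((QuotientGroup.eq_one_iff _).1 e))
        have h2 : c⁻¹ * mk (t : G) * c ∈ C := by
          rw [Subgroup.mem_centralizer_singleton_iff]
          simp only [map_mul, map_inv, mul_inv_eq_one] at h1
          rw [← hc] at h1
          calc c⁻¹ * mk (t : G) * c * mk g
              = c⁻¹ * (mk (t : G) * (c * mk g * c⁻¹) * (mk (t : G))⁻¹) * mk (t : G) * c := by group
            _ = mk g * (c⁻¹ * mk (t : G) * c) := by rw [h1]; group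
        rw [hCD] at h2
        have h3 := Subgroup.Normal.conj_mem (inferInstance : Db.Normal) _ h2 c
        have h4 : (t : G) ∈ Db.comap mk := by
          rw [Subgroup.mem_comap]
          convert h3 using 1
          group
        rwa [hDb, Subgroup.comap_map_eq, QuotientGroup.ker_mk', sup_eq_left.2 hKD] at h4
    obtain ⟨x, hxP, hxR, hxp⟩ := hgoal
    have hxK : (x : G) ∉ K := fun e => hxR ⟨e, hxP⟩
    obtain ⟨c, hc⟩ := isConj_iff.1 (h.isConj_iff_mem.2 ⟨hPD hxP, hxK⟩)
    have h5 : (x : G) ^ p = 1 := congrArg Subtype.val hxp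
    change c * g * c⁻¹ = (x : G) at hc
    rw [← hc, conj_pow] at h5
    exact conj_eq_one_iff.1 h5

end CfsgLib.OneSeen
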