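import Cfsg.Agent.OneSeen.Solvable

/-!
The statement about a noncentral element seen by one nonlinear character, given that groups of odd
order are solvable.
-/

set_option autoImplicit false

namespace CfsgLib.OneSeen

open Cfsg CfsgLib.Chars

universe u

theorem statement_of
    (FT : ∀ {H : Type u} [Group H] [Finite H], Odd (Nat.card H) → Group.IsSolvable H)
    {G : Type u} [Group G] [Finite G] (g : G) (hg : g ∉ Subgroup.center G) (χ : Cfsg.IrrCharacter G) (hχ1 : Cfsg.charDegree (χ : G → ℂ) ≠ 1) (hχg : (χ : G → ℂ) g ≠ 0) (hother : ∀ ψ : Cfsg.IrrCharacter G, Cfsg.charDegree (ψ : G → ℂ) ≠ 1 → ψ ≠ χ → (ψ : G → ℂ) g = 0) : g ∈ commutator G ∧ (χ : G → ℂ) g = -(((commutator G).index : ℂ) / (χ : G → ℂ) 1) ∧ ((commutator G : Set G) = {x : G | (χ : G → ℂ) x = (χ : G → ℂ) 1} ∪ {h : G | IsConj g h}) ∧ (∀ x : G, x ∉ commutator G → (χ : G → ℂ) x = 0) ∧ (∀ ψ : Cfsg.IrrCharacter G, Cfsg.charDegree (ψ : G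 → ℂ) ≠ 1 → (∀ x : G, (χ : G → ℂ) x = (χ : G → ℂ) 1 → (ψ : G → ℂ) x = (ψ : G → ℂ) 1) → ψ = χ) ∧ Group.IsSolvable G := by
  have h : Hyp g χ := ⟨hg, fun e => hχ1 ((charDegree_eq_one_iff χ).2 e), hχg,
    fun ψ h1 h2 => hother ψ (fun e => h1 ((charDegree_eq_one_iff ψ).1 e)) h2⟩
  refine ⟨h.mem_commutator, h.apply_eq, h.commutator_eq, fun x hx => h.apply_outside hx,
    fun ψ h1 h2 => h.eq_of_le ψ (fun e => h1 ((charDegree_eq_one_iff ψ).2 e)) fun x hx =>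
      (mem_charKer_iff (isCharacter_coe ψ)).2 (h2 x ((mem_charKer_iff (isCharacter_coe χ)).1 hx)), ?_⟩
  exact h.isSolvable FT

end CfsgLib.OneSeen
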